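import Cfsg.Agent.H241.NHTools
import Cfsg.Agent.H393.Iso.Suz
import Cfsg.Agent.H393.Iso.TitsJ4
import Cfsg.Agent.H547.SelfCent.Tits
import Cfsg.Agent.CpAutSuz.ThreeC
import Cfsg.Agent.CpAutTits.Row

/-!
# Rows of the nilpotent Hall cluster: `Suz` and the Tits group (helper759, for helper241)
-/

set_option autoImplicit false

open Cfsg Subgroup

namespace Cfsg.Agent.H759.NH

open Cfsg.Agent.H630.NH Cfsg.Agent.H241.NH Cfsg.Agent.H393.Iso

/-! ### `Suz` -/

section Suz

open Cfsg.Spor
open Cfsg.Agent.SporadicRecognition.SuzOrder Cfsg.Agent.SuzThree.Basic Cfsg.Agent.SuzThree.CentA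
  Cfsg.Agent.KFacts.SuzLFour Cfsg.Agent.KFacts.SuzTwoB Cfsg.Agent.CTwoTab.SuzPlane

theorem na_suz_model [Finite Cfsg.Spor.Suz] : NA 13 Cfsg.Spor.Suz := by
  refine NA.of_isConj (fun s => s = z0 ∨ s = e0) (fun t ht ht1 => ?_) ?_
  · rcases CTwoTab.Suz.classes ht ht1 with h | h
    · exact ⟨_, Or.inl rfl, h⟩
    · exact ⟨_, Or.inr rfl, h⟩
  · rintro s (rfl | rfl) x hx hxs
    · exact false_of_large (by norm_num) (by norm_num) KFacts.SuzLarge.large (k := 7) (d := 6)
        KFacts.SuzR.card_R (by norm_num) (by decide +kernel) hx hxs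
    · refine false_of_pow_mem (by norm_num) (L := VL) ?_ hx (n := 2) (by norm_num) ?_
      · rw [card_VL, card_L]
        norm_num
      · rw [pow_two]
        exact Subgroup.mul_self_mem_of_index_two idx.1 (⟨x, mem_CE.2 hxs⟩ : ↥CE)

theorem na_suz {G : Type*} [Group G] [Finite G] (h : Spor.IsoSuz G) : NA 13 G :=
  h.elim fun e =>
    have := Finite.of_equiv G e.toEquiv
    na_suz_model.of_equiv e.symm

end Suz

section Suz3

open Cfsg.Agent.SuzThree.Basic Cfsg.Agent.CpAutSuz.ThreeC Cfsg.Agent.PreUniq.Spor.SuzP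

theorem nc_suz_model {q : ℕ} (hq : q = 5 ∨ q = 7 ∨ q = 11 ∨ q = 13) : NC 3 q Cfsg.Spor.Suz := by
  have hcard : Nat.card Cfsg.Spor.Suz = 448345497600 := Cfsg.Agent.SporadicRecognition.SuzOrder.card_Suz
  have hf : Finite Cfsg.Spor.Suz := Nat.finite_of_card_ne_zero (by rw [hcard]; norm_num)
  have hF : Fact (Nat.Prime 3) := ⟨Nat.prime_three⟩
  have h1 : E ≠ ⊥ := by
    intro h
    have h2 := card_E
    rw [h, Subgroup.card_bot] at h2
    norm_num at h2
  obtain ⟨x, hx, hx1⟩ : ∃ x ∈ E, x ≠ 1 := by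
    by_contra h
    push Not at h
    exact h1 ((Subgroup.eq_bot_iff_forall _).2 h)
  have hx3 : orderOf x = 3 := orderOf_eq_prime (cube_E hx) hx1
  have hc := card_centralizer hx hx1
  rcases hq with rfl | rfl | rfl | rfl
  · exact nc_of_dvd (a := 2) (by norm_num) (by norm_num) hx3 (by rw [hcard]; norm_num) (dvd_of_eq hc) (by norm_num)
  · exact nc_of_dvd (a := 1) (by norm_num) (by norm_num) hx3 (by rw [hcard]; norm_num) (dvd_of_eq hc) (by norm_num)
  · exact nc_of_dvd (a := 1) (by norm_num) (by norm_num) hx3 (by rw [hcard]; norm_num) (dvd_of_eq hc) (by norm_num)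
  · exact nc_of_dvd (a := 1) (by norm_num) (by norm_num) hx3 (by rw [hcard]; norm_num) (dvd_of_eq hc) (by norm_num)

end Suz3

/-- **`Suz`.** -/
theorem row_suz {G : Type*} [Group G] [Finite G] [IsSimpleGroup G] (h : Spor.IsoSuz G) : Row G := by
  have hN := NotCT.Orders.suz h
  have hnc : ∀ {q : ℕ}, (q = 5 ∨ q = 7 ∨ q = 11 ∨ q = 13) → NC 3 q G := by
    intro q hq
    obtain ⟨e⟩ := h
    exact (nc_suz_model hq).congr e.symm
  refine row_of (N := 448345497600) (k := 13) hN [3, 5, 7, 11, 13] [3] [11, 13] 5 [] ?_ ?_ ?_ ?_ ?_ ?_ ?_ ?_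
  · decide
  · decide +kernel
  · decide
  · exact ab_of_not_cube (by norm_num) (by rw [hN]; norm_num)
  · intro p hp q hq hpq
    obtain rfl := List.mem_singleton.1 hp
    refine hnc ?_
    simp only [List.mem_cons, List.not_mem_nil, or_false] at hq
    tauto
  · intro r hr
    simp only [List.mem_cons, List.not_mem_nil, or_false] at hr
    rcases hr with rfl | rfl
    · exact solv_of_na (by norm_num) (by rw [hN]; norm_num) (H393.Iso.na_suz h)
    · exact solv_of_na (by norm_num) (by rw [hN]; norm_num) (na_suz h)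
  · intro a ha; exact absurd ha (by simp)
  · decide

/-! ### the Tits group -/

/-- **The Tits group.** -/
theorem row_tits {G : Type*} [Group G] [Finite G] [IsSimpleGroup G] (h : Lie.IsoTits G) : Row G := by
  have hN := NotCT.Orders.tits h
  have hO := CpAutTits.Row.out h
  have h5 : NC 3 5 G := by
    have : Fact (Nat.Prime 5) := ⟨by norm_num⟩
    obtain ⟨y, hy⟩ := exists_prime_orderOf_dvd_card' (G := G) 5 (by rw [hN]; norm_num)
    exact (nc_of_dvd (a := 1) (by norm_num) (by norm_num) hy (by rw [hN]; norm_num)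
      (dvd_of_eq (hO.cent y hy)) (by norm_num)).symm
  have h13 : NC 3 13 G := by
    have : Fact (Nat.Prime 13) := ⟨by norm_num⟩
    obtain ⟨y, hy⟩ := exists_prime_orderOf_dvd_card' (G := G) 13 (by rw [hN]; norm_num)
    exact (nc_of_dvd (a := 1) (by norm_num) (by norm_num) hy (by rw [hN]; norm_num)
      (dvd_of_eq (H547.SelfCent.tits h inferInstance (na_tits h) hy)) (by norm_num)).symm
  refine row_of (N := 17971200) (k := 11) hN [3, 5, 13] [3] [] 5 [] ?_ ?_ ?_ ?_ ?_ ?_ ?_ ?_
  · decide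
  · decide +kernel
  · decide
  · exact ab_of_not_cube (by norm_num) (by rw [hN]; norm_num)
  · intro p hp q hq hpq
    obtain rfl := List.mem_singleton.1 hp
    simp only [List.mem_cons, List.not_mem_nil, or_false] at hq
    rcases hq with rfl | rfl | rfl
    · exact absurd rfl hpq
    · exact h5
    · exact h13
  · intro r hr; exact absurd hr (by simp)
  · intro a ha; exact absurd ha (by simp)
  · decide

end Cfsg.Agent.H759.NH
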